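import Cfsg.Agent.Lib.Cores.Basic

/-!
If the elements of order `p` of the centre of a Sylow subgroup lying in an abelian normal `p`-subgroup are
central, so are all its elements there.
-/

set_option autoImplicit false

namespace CfsgLib.JGeneration

open Subgroup
open scoped IsMulCommutative

variable {G : Type*} [Group G] [Finite G] {p : ℕ} [Fact p.Prime]

theorem central_of_omega (S : Sylow p G) {W : Subgroup G} [W.Normal] [IsMulCommutative W] (hW : IsPGroup p W)
    (h : ∀ v ∈ W, v ∈ centralizer ((S : Subgroup G) : Set G) → v ^ p = 1 → v ∈ center G) :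
    ∀ z ∈ W, z ∈ centralizer ((S : Subgroup G) : Set G) → z ∈ center G := by
  classical
  suffices key : ∀ (k : ℕ), ∀ z : ↥W, (z : G) ∈ centralizer ((S : Subgroup G) : Set G) → z ^ p ^ k = 1 →
      (z : G) ∈ center G by
    intro z hz hzS
    obtain ⟨k, hk⟩ := hW ⟨z, hz⟩
    exact key k ⟨z, hz⟩ hzS hk
  intro k
  induction k with
  | zero =>
    intro z _ hk
    rw [pow_zero, pow_one] at hk
    rw [hk]; exact one_mem _
  | succ k ih =>
    intro z hzS hk
    have hp2 : ((z ^ p : ↥W) : G) ∈ center G := ih (z ^ p) (pow_mem hzS p) (by rwa [← pow_mul, ← pow_succ'])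
    have hfix : ∀ s ∈ (S : Subgroup G), MulAut.conjNormal s z = z := fun s hs => Subtype.ext (by
      rw [MulAut.conjNormal_apply, mem_centralizer_iff.1 hzS s hs, mul_inv_cancel_right])
    haveI : Fintype (G ⧸ (S : Subgroup G)) := Fintype.ofFinite _
    let F : G ⧸ (S : Subgroup G) → ↥W := fun q => MulAut.conjNormal q.out z
    have hF : ∀ g : G, F (QuotientGroup.mk g) = MulAut.conjNormal g z := by
      intro g
      obtain ⟨s, hs⟩ := QuotientGroup.mk_out_eq_mul (S : Subgroup G) g
      show MulAut.conjNormal (QuotientGroup.mk g : G ⧸ (S : Subgroup G)).out z = _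
      rw [hs, map_mul, MulAut.mul_apply, hfix s s.2]
    set U := ∏ q, F q with hU
    have hUinv : ∀ g : G, MulAut.conjNormal g U = U := fun g => by
      rw [hU, map_prod]
      refine Fintype.prod_equiv (MulAction.toPerm g) _ _ fun q => ?_
      obtain ⟨x, rfl⟩ := QuotientGroup.mk_surjective q
      show _ = F (g • (QuotientGroup.mk x : G ⧸ (S : Subgroup G)))
      rw [MulAction.Quotient.smul_mk, hF, hF, smul_eq_mul, map_mul, MulAut.mul_apply]
    have hUc : (U : G) ∈ center G := mem_center_iff.2 fun g => by
      have h1 := congrArg (fun w : ↥W => (w : G)) (hUinv g)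
      simp only [MulAut.conjNormal_apply] at h1
      exact mul_inv_eq_iff_eq_mul.1 h1
    set i := Nat.card (G ⧸ (S : Subgroup G)) with hi
    set d := U * (z ^ i)⁻¹ with hd
    have hdp : d ^ p = 1 := by
      have h1 : ∀ q, F q ^ p = z ^ p := fun q => by
        rw [show F q = MulAut.conjNormal q.out z from rfl, ← map_pow]
        refine Subtype.ext ?_
        rw [MulAut.conjNormal_apply, mem_center_iff.1 hp2 q.out, mul_inv_cancel_right]
      rw [hd, mul_pow, hU, ← Finset.prod_pow, Finset.prod_congr rfl (fun q _ => h1 q), Finset.prod_const,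
        Finset.card_univ, ← Nat.card_eq_fintype_card, ← hi, inv_pow, ← pow_mul, ← pow_mul, mul_comm p i,
        mul_inv_cancel]
    have hdc : (d : G) ∈ center G := by
      refine h _ d.2 ?_ (by simpa using congrArg (fun w : ↥W => (w : G)) hdp)
      simp only [hd, Subgroup.coe_mul, Subgroup.coe_inv, Subgroup.coe_pow]
      exact mul_mem (center_le_centralizer _ hUc) (inv_mem (pow_mem hzS _))
    have hzi : ((z ^ i : ↥W) : G) ∈ center G := by
      have e : (z ^ i) = d⁻¹ * U := by rw [hd]; simp [mul_comm]
      rw [e, Subgroup.coe_mul, Subgroup.coe_inv]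
      exact mul_mem (inv_mem hdc) hUc
    rw [Subgroup.coe_pow] at hzi hp2
    have hco : Nat.gcd i p = 1 := by
      have : ¬ p ∣ i := by rw [hi, ← Subgroup.index_eq_card]; exact S.not_dvd_index
      exact ((Fact.out : p.Prime).coprime_iff_not_dvd.2 this).symm
    have hb := Nat.gcd_eq_gcd_ab i p
    rw [hco, Nat.cast_one] at hb
    rw [← zpow_one (z : G), hb, zpow_add, zpow_mul, zpow_mul, zpow_natCast, zpow_natCast]
    exact mul_mem (zpow_mem hzi _) (zpow_mem hp2 _)

end CfsgLib.JGeneration
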