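import Cfsg.Agent.Lib.LocalEven.MinOffender.Main
import Cfsg.Agent.Lib.Techniques.Functor.SylowNorm

/-!
Strict offenders whose generated subgroups are not confined yield a section `SL₂(q)`.

`Mx` is a proper subgroup over the Sylow subgroup `T` containing every element that centralises the fixed
points of `T` and the normalizer of the subgroup generated by the offenders inside `T`. A largest subgroup
`R` generated by offenders whose normalizer is not in `Mx`, an offender `A` normalizing it, and a smallest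
subgroup outside `Mx` between `A ⊔ R` and the normalizer of `R` give a minimal offender on the fixed points
of `R` generating with every conjugate outside the maximal subgroup.
-/

set_option autoImplicit false
set_option linter.unusedSectionVars false
set_option linter.style.haveILetI false

namespace CfsgLib.JGeneration

open Subgroup
open CfsgLib.Fusion (conjSub mem_conjSub conj_mem_conjSub conjSub_conjSub conjSub_one conjSub_mono card_conjSub
  conjSub_eq_iff_mem_normalizer)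
open CfsgLib.LocalEven.MinOffender (fx fx_anti smul_mem_fx_conj mem_fx_conj pair_le)

variable {Γ : Type*} [Group Γ]

/-- The subgroup generated by the members of `𝒜` inside `P`. -/
def genIn (𝒜 : Set (Subgroup Γ)) (P : Subgroup Γ) : Subgroup Γ := sSup {A | A ∈ 𝒜 ∧ A ≤ P}

variable {𝒜 : Set (Subgroup Γ)}

theorem genIn_le (P : Subgroup Γ) : genIn 𝒜 P ≤ P := sSup_le fun _ h => h.2

theorem le_genIn {P A : Subgroup Γ} (hA : A ∈ 𝒜) (h : A ≤ P) : A ≤ genIn 𝒜 P := le_sSup ⟨hA, h⟩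

theorem genIn_mono {P Q : Subgroup Γ} (h : P ≤ Q) : genIn 𝒜 P ≤ genIn 𝒜 Q :=
  sSup_le fun _ hA => le_genIn hA.1 (hA.2.trans h)

theorem genIn_idem (P : Subgroup Γ) : genIn 𝒜 (genIn 𝒜 P) = genIn 𝒜 P :=
  le_antisymm (genIn_le _) (sSup_le fun _ hA => le_genIn hA.1 (le_genIn hA.1 hA.2))

theorem genIn_conj (hconj : ∀ A ∈ 𝒜, ∀ g, conjSub g A ∈ 𝒜) (g : Γ) (P : Subgroup Γ) :
    genIn 𝒜 (conjSub g P) = conjSub g (genIn 𝒜 P) := by
  have key : ∀ (g : Γ) (P : Subgroup Γ), conjSub g (genIn 𝒜 P) ≤ genIn 𝒜 (conjSub g P) := by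
    intro g P
    refine Subgroup.map_le_iff_le_comap.2 (sSup_le fun A hA => Subgroup.map_le_iff_le_comap.1 ?_)
    exact le_genIn (hconj A hA.1 g) (conjSub_mono g hA.2)
  refine le_antisymm ?_ (key g P)
  have h := conjSub_mono g (key g⁻¹ (conjSub g P))
  rwa [conjSub_conjSub, mul_inv_cancel, conjSub_one, conjSub_conjSub, inv_mul_cancel, conjSub_one] at h

theorem normalizer_le_genIn (hconj : ∀ A ∈ 𝒜, ∀ g, conjSub g A ∈ 𝒜) (P : Subgroup Γ) :
    normalizer (P : Set Γ) ≤ normalizer (genIn 𝒜 P : Set Γ) := fun g hg => by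
  rw [← conjSub_eq_iff_mem_normalizer, ← genIn_conj hconj, conjSub_eq_iff_mem_normalizer.2 hg]

theorem card_map_mul {H : Type*} [Group H] [Finite Γ] (f : Γ →* H) (B : Subgroup Γ) :
    Nat.card ↥B = Nat.card ↥(B.map f) * Nat.card ↥(B ⊓ f.ker) := by
  set g := f.comp B.subtype with hg
  rw [card_eq_card_quotient_mul_card_subgroup g.ker,
    Nat.card_congr (QuotientGroup.quotientKerEquivRange g).toEquiv,
    show g.range = B.map f by rw [MonoidHom.range_comp, Subgroup.range_subtype],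
    show g.ker = f.ker.comap B.subtype from (MonoidHom.comap_ker f B.subtype).symm,
    ← Subgroup.card_map_of_injective (K := f.ker.comap B.subtype) B.subtype_injective,
    Subgroup.map_comap_eq, Subgroup.range_subtype]

variable {M : Type*} [AddCommGroup M] [DistribMulAction Γ M]

/-- The setting. -/
structure Setting (p : ℕ) (𝒜 : Set (Subgroup Γ)) (T : Sylow p Γ) (Mx : Subgroup Γ) (M : Type*)
    [AddCommGroup M] [DistribMulAction Γ M] : Prop where
  prime : p.Prime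
  exp : ∀ m : M, p • m = 0
  sylLe : (T : Subgroup Γ) ≤ Mx
  proper : Mx ≠ ⊤
  fixCentral : ∀ g : Γ, (∀ v ∈ fx M (T : Subgroup Γ), g • v = v) → g ∈ Mx
  conjMem : ∀ A ∈ 𝒜, ∀ g, conjSub g A ∈ 𝒜
  comm : ∀ A ∈ 𝒜, ∀ a ∈ A, ∀ b ∈ A, a * b = b * a
  off : ∀ A ∈ 𝒜, Nat.card M ≤ Nat.card ↥A * Nat.card ↥(fx M A)
  strict : ∀ A ∈ 𝒜, ∀ A₀ : Subgroup Γ, A₀ ≤ A → A₀ ≠ ⊥ → A₀ ≠ A →
    Nat.card ↥A₀ * Nat.card ↥(fx M A₀) < Nat.card ↥A * Nat.card ↥(fx M A)
  some : ∃ A ∈ 𝒜, A ≤ (T : Subgroup Γ)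
  normJ : normalizer (genIn 𝒜 (T : Subgroup Γ) : Set Γ) ≤ Mx

namespace Setting

variable [Finite Γ] [Finite M] {p : ℕ} [Fact p.Prime] {T : Sylow p Γ} {Mx : Subgroup Γ}
  (h : Setting p 𝒜 T Mx M)
include h

theorem exists_conj_of_le {H : Subgroup Γ} (hH : IsPGroup p ↥H) (hle : H ≤ Mx) :
    ∃ m ∈ Mx, H ≤ conjSub m (T : Subgroup Γ) := by
  obtain ⟨P, hP⟩ := (hH.of_equiv (Subgroup.subgroupOfEquivOfLe hle).symm).exists_le_sylow
  obtain ⟨m, hm⟩ := MulAction.exists_smul_eq (↥Mx) (T.subtype h.sylLe) P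
  refine ⟨(m : Γ), m.2, fun x hx => ?_⟩
  have h1 : (⟨x, hle hx⟩ : ↥Mx) ∈ (P : Subgroup ↥Mx) := hP (show (⟨x, hle hx⟩ : ↥Mx) ∈ H.subgroupOf _ from hx)
  rw [← hm, Sylow.coe_subgroup_smul] at h1
  obtain ⟨y, hy, e⟩ := h1
  exact ⟨(y : Γ), hy, congrArg Subtype.val e⟩

/-- A largest subgroup generated by offenders with normalizer outside `Mx`, and an offender normalizing it. -/
theorem exists_top_pair : ∃ R A : Subgroup Γ, R ≤ (T : Subgroup Γ) ∧ ¬ normalizer (R : Set Γ) ≤ Mx ∧ A ∈ 𝒜 ∧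
    A ≤ (T : Subgroup Γ) ∧ A ≤ normalizer (R : Set Γ) ∧
    ∀ P : Subgroup Γ, IsPGroup p ↥P → A ⊔ R ≤ P → P ≤ Mx ∧ normalizer (genIn 𝒜 P : Set Γ) ≤ Mx := by
  classical
  obtain ⟨R, ⟨hRT, hRg, hRN⟩, hmax⟩ := Set.exists_max_image
    {R : Subgroup Γ | R ≤ (T : Subgroup Γ) ∧ genIn 𝒜 R = R ∧ ¬ normalizer (R : Set Γ) ≤ Mx}
    (fun R => Nat.card ↥R) (Set.toFinite _)
    ⟨⊥, bot_le, le_bot_iff.1 (genIn_le _), fun hle => h.proper (eq_top_iff.2 fun g _ =>
      hle (by rw [normalizer_eq_top_iff.2 (inferInstance : (⊥ : Subgroup Γ).Normal)]; exact mem_top g))⟩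
  have hne : genIn 𝒜 (T : Subgroup Γ) ≠ R := fun e => hRN (e ▸ h.normJ)
  set T₁ := (T : Subgroup Γ) ⊓ normalizer (R : Set Γ) with hT₁
  obtain ⟨A, hA, hAT₁, hAR⟩ : ∃ A ∈ 𝒜, A ≤ T₁ ∧ ¬ A ≤ R := by
    by_contra hc
    push Not at hc
    have heq : genIn 𝒜 T₁ = R :=
      le_antisymm (sSup_le fun A hA => hc A hA.1 hA.2)
        (le_of_eq_of_le hRg.symm (genIn_mono (le_inf hRT Subgroup.le_normalizer)))
    rcases (inf_le_left : T₁ ≤ (T : Subgroup Γ)).eq_or_lt with e | e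
    · exact hne (e ▸ heq)
    · refine (CfsgLib.Techniques.Functor.lt_norm T.2 e).not_ge (le_inf inf_le_left ?_)
      refine inf_le_right.trans ?_
      calc normalizer (T₁ : Set Γ) ≤ normalizer (genIn 𝒜 T₁ : Set Γ) := normalizer_le_genIn h.conjMem T₁
        _ = normalizer (R : Set Γ) := by rw [heq]
  refine ⟨R, A, hRT, hRN, hA, hAT₁.trans inf_le_left, hAT₁.trans inf_le_right, fun P hP hle => ?_⟩
  -- any `p`-subgroup of `Mx` over `A ⊔ R` generates a subgroup with normalizer in `Mx`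
  have key : ∀ P₁ : Subgroup Γ, IsPGroup p ↥P₁ → A ⊔ R ≤ P₁ → P₁ ≤ Mx →
      normalizer (genIn 𝒜 P₁ : Set Γ) ≤ Mx := by
    intro P₁ hP₁ hle₁ hM
    obtain ⟨m, hm, hPm⟩ := h.exists_conj_of_le hP₁ hM
    set R' := conjSub m⁻¹ (genIn 𝒜 P₁) with hR'
    have hR'T : R' ≤ (T : Subgroup Γ) := by
      have h1 := conjSub_mono m⁻¹ ((genIn_le (𝒜 := 𝒜) P₁).trans hPm)
      rwa [conjSub_conjSub, inv_mul_cancel, conjSub_one] at h1
    have hR'g : genIn 𝒜 R' = R' := by rw [hR', genIn_conj h.conjMem, genIn_idem]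
    have hlt : R < genIn 𝒜 P₁ :=
      lt_of_le_not_ge (le_of_eq_of_le hRg.symm (genIn_mono (le_sup_right.trans hle₁)))
        fun hge => hAR ((le_genIn hA (le_sup_left.trans hle₁)).trans hge)
    intro g hg
    have hN : normalizer (R' : Set Γ) ≤ Mx := by
      by_contra hc
      have h1 := hmax R' ⟨hR'T, hR'g, hc⟩
      rw [hR', card_conjSub] at h1
      exact (CfsgLib.Techniques.Functor.card_lt_of_lt hlt).not_ge h1
    have hg' : m⁻¹ * g * m ∈ normalizer (R' : Set Γ) := by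
      rw [← conjSub_eq_iff_mem_normalizer, hR', conjSub_conjSub,
        show m⁻¹ * g * m * m⁻¹ = m⁻¹ * g by group, ← conjSub_conjSub, conjSub_eq_iff_mem_normalizer.2 hg]
    have := mul_mem (mul_mem hm (hN hg')) (inv_mem hm)
    rwa [show m * (m⁻¹ * g * m) * m⁻¹ = g by group] at this
  have hPM : P ≤ Mx := by
    set P₁ := P ⊓ Mx with hP₁
    rcases (inf_le_left : P₁ ≤ P).eq_or_lt with e | e
    · exact e.symm.le.trans inf_le_right
    · exfalso
      refine (CfsgLib.Techniques.Functor.lt_norm hP e).not_ge (le_inf inf_le_left (inf_le_right.trans ?_))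
      exact (normalizer_le_genIn h.conjMem P₁).trans (key P₁ (hP.to_le inf_le_left)
        (le_inf hle (sup_le ((hAT₁.trans inf_le_left).trans h.sylLe) (hRT.trans h.sylLe))) inf_le_right)
  exact ⟨hPM, key P hP hle hPM⟩

/-- The main theorem: a section `SL₂(q)`. -/
theorem exists_sl2 : ∃ (L : Subgroup Γ) (F : Type) (_ : Field F) (_ : Fintype F) (n : ℕ),
    Fintype.card F = p ^ n ∧
      ∃ f : ↥L →* Matrix.SpecialLinearGroup (Fin 2) F, Function.Surjective f := by
  classical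
  obtain ⟨R, A, hRT, hRN, hA, hAT, hAN, hK⟩ := h.exists_top_pair
  set AR := A ⊔ R with hAR
  have hART : AR ≤ (T : Subgroup Γ) := sup_le hAT hRT
  obtain ⟨L, ⟨hARL, hLN, hLM⟩, hmin⟩ := Set.exists_min_image
    {X : Subgroup Γ | AR ≤ X ∧ X ≤ normalizer (R : Set Γ) ∧ ¬ X ≤ Mx} (fun X => Nat.card ↥X) (Set.toFinite _)
    ⟨normalizer (R : Set Γ), sup_le hAN Subgroup.le_normalizer, le_rfl, hRN⟩
  have hsub : ∀ H : Subgroup Γ, AR ≤ H → H ≤ L → H ≠ L → H ≤ Mx := fun H h1 h2 h3 => by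
    by_contra hc
    exact h3 (eq_of_le_of_card_ge h2 (hmin H ⟨h1, h2.trans hLN, hc⟩))
  -- a Sylow subgroup of `L` over `A ⊔ R`
  obtain ⟨Q, hQ⟩ := ((T.2.to_le hART).of_equiv (subgroupOfEquivOfLe hARL).symm).exists_le_sylow
  set PL := (Q : Subgroup ↥L).map L.subtype with hPL
  have hARP : AR ≤ PL := fun x hx => ⟨⟨x, hARL hx⟩, hQ hx, rfl⟩
  have hPLL : PL ≤ L := map_subtype_le _
  obtain ⟨hPLM, hPLN⟩ := hK PL (Q.2.map L.subtype) hARP
  obtain ⟨m, hm, hPm⟩ := h.exists_conj_of_le (Q.2.map L.subtype) hPLM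
  set ML := L ⊓ Mx with hML
  have hMLlt : ML ≠ L := fun e => hLM (e ▸ inf_le_right)
  have hARM : AR ≤ ML := le_inf hARL (hART.trans h.sylLe)
  -- generation
  have hgen : ∀ x ∈ L, x ∉ Mx → A ⊔ conjSub x A ⊔ R = L := by
    intro x hx hxM
    have hxA : conjSub x A ≤ L := by
      rintro _ ⟨a, ha, rfl⟩
      exact mul_mem (mul_mem hx (hARL (mem_sup_left ha))) (inv_mem hx)
    by_contra hne
    set H := A ⊔ conjSub x A ⊔ R with hH
    have hHL : H ≤ L := sup_le (sup_le (le_sup_left.trans hARL) hxA) (le_sup_right.trans hARL)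
    have hHM : H ≤ ML := le_inf hHL (hsub H (sup_le (le_sup_left.trans le_sup_left) le_sup_right) hHL hne)
    have hxR : conjSub x R = R := conjSub_eq_iff_mem_normalizer.2 (hLN hx)
    have hxAR : conjSub x AR ≤ ML := by
      rw [hAR, conjSub, Subgroup.map_sup]
      exact sup_le ((le_sup_right.trans le_sup_left).trans hHM) (hxR.le.trans (le_sup_right.trans hHM))
    set ML' := conjSub x⁻¹ ML with hML'
    have hARM' : AR ≤ ML' := by
      have h1 := conjSub_mono x⁻¹ hxAR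
      rwa [conjSub_conjSub, inv_mul_cancel, conjSub_one] at h1
    have hML'L : ML' ≤ L := by
      rintro _ ⟨y, hy, rfl⟩
      show x⁻¹ * y * x⁻¹⁻¹ ∈ L
      exact mul_mem (mul_mem (inv_mem hx) hy.1) (inv_mem (inv_mem hx))
    have hne' : ML' ≠ L := fun e => hMLlt (eq_of_le_of_card_ge inf_le_left (by
      rw [← e, hML', card_conjSub]))
    have heq : ML' = ML := eq_of_le_of_card_ge (le_inf hML'L (hsub ML' hARM' hML'L hne'))
      (by rw [hML', card_conjSub])
    have hxN : x⁻¹ ∈ normalizer (ML : Set Γ) := conjSub_eq_iff_mem_normalizer.1 heq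
    have hxN' : x ∈ normalizer (ML : Set Γ) := by simpa using inv_mem hxN
    set N := L ⊓ normalizer (ML : Set Γ) with hN
    by_cases hNL : N = L
    swap
    · exact hxM (hsub N (le_inf hARL (hARM.trans Subgroup.le_normalizer)) inf_le_left hNL ⟨hx, hxN'⟩)
    haveI hnorm : (ML.subgroupOf L).Normal :=
      Subgroup.normal_subgroupOf_of_le_normalizer (inf_eq_left.1 hNL)
    have hQle : (Q : Subgroup ↥L) ≤ ML.subgroupOf L := fun z hz =>
      show (z : Γ) ∈ ML from ⟨z.2, hPLM ⟨z, hz, rfl⟩⟩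
    have hfr := Sylow.normalizer_sup_eq_top (Q.subtype hQle)
    rw [Sylow.coe_subtype, Subgroup.map_subgroupOf_eq_of_le hQle] at hfr
    have htop : (⊤ : Subgroup ↥L) ≤ Mx.subgroupOf L := by
      rw [← hfr]
      refine sup_le (fun n hn => ?_) fun z hz => hz.2
      refine hPLN (normalizer_le_genIn h.conjMem PL ?_)
      exact Subgroup.le_normalizer_map L.subtype ⟨n, hn, rfl⟩
    exact hxM (htop (mem_top (⟨x, hx⟩ : ↥L)))
  -- the module of fixed points of `R`
  set W := fx M R with hW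
  have hWinv : ∀ l ∈ L, ∀ v ∈ W, l • v ∈ W := fun l hl v hv => by
    have h1 := smul_mem_fx_conj (g := l) hv
    rwa [conjSub_eq_iff_mem_normalizer.2 (hLN hl)] at h1
  letI : DistribMulAction ↥L ↥W :=
    { smul := fun l v => ⟨(l : Γ) • (v : M), hWinv _ l.2 _ v.2⟩
      one_smul := fun v => Subtype.ext (one_smul Γ (v : M))
      mul_smul := fun l l' v => Subtype.ext (mul_smul (l : Γ) (l' : Γ) (v : M))
      smul_zero := fun l => Subtype.ext (smul_zero (l : Γ))
      smul_add := fun l v w => Subtype.ext (smul_add (l : Γ) (v : M) (w : M)) }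
  set ψ₀ : ↥L →* (AddMonoid.End ↥W)ˣ := (DistribMulAction.toAddMonoidEnd ↥L ↥W).toHomUnits with hψ₀
  set ψ := ψ₀.rangeRestrict with hψ
  have hψs : Function.Surjective ψ := MonoidHom.rangeRestrict_surjective _
  have hψv : ∀ (l : ↥L) (v : ↥W), ((ψ l • v : ↥W) : M) = (l : Γ) • (v : M) := fun l v => rfl
  have hfxmap : ∀ (B : Subgroup ↥L) (v : ↥W),
      v ∈ fx ↥W (B.map ψ) ↔ (v : M) ∈ fx M (B.map L.subtype) := fun B v => by
    constructor
    · rintro hv _ ⟨b, hb, rfl⟩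
      rw [coe_subtype, ← hψv, hv _ ⟨b, hb, rfl⟩]
    · rintro hv _ ⟨b, hb, rfl⟩
      exact Subtype.ext ((hψv b v).trans (hv _ ⟨b, hb, rfl⟩))
  have hfxcard : ∀ B : Subgroup ↥L, Nat.card ↥(fx ↥W (B.map ψ)) = Nat.card ↥(W ⊓ fx M (B.map L.subtype)) :=
    fun B => Nat.card_congr
      { toFun := fun v => ⟨((v : ↥W) : M), AddSubgroup.mem_inf.2 ⟨(v : ↥W).2, (hfxmap B v).1 v.2⟩⟩
        invFun := fun v => ⟨⟨(v : M), v.2.1⟩, (hfxmap B _).2 v.2.2⟩
        left_inv := fun _ => rfl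
        right_inv := fun _ => rfl }
  have hker : ∀ l ∈ ψ.ker, ∀ v : ↥W, (l : Γ) • (v : M) = v := fun l hl v => by
    rw [← hψv, MonoidHom.mem_ker.1 hl, one_smul]
  have hRker : ∀ r : ↥L, (r : Γ) ∈ R → r ∈ ψ.ker := fun r hr => by
    rw [MonoidHom.mem_ker]
    refine Subtype.ext (Units.ext (DFunLike.ext _ _ fun v => Subtype.ext ?_))
    exact v.2 _ hr
  -- fixed points of `conjSub m T` lie in `W`
  have hfxW : fx M (conjSub m (T : Subgroup Γ)) ≤ W := fx_anti ((le_sup_right.trans hARP).trans hPm)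
  have hmoveM : ∀ g : Γ, (∀ v ∈ fx M (conjSub m (T : Subgroup Γ)), g • v = v) → g ∈ Mx := fun g hg => by
    have h1 : m⁻¹ * g * m ∈ Mx := h.fixCentral _ fun v hv => by
      rw [mul_smul, mul_smul, hg _ (smul_mem_fx_conj hv), inv_smul_smul]
    have := mul_mem (mul_mem hm h1) (inv_mem hm)
    rwa [show m * (m⁻¹ * g * m) * m⁻¹ = g by group] at this
  have hkerM : ∀ l ∈ ψ.ker, (l : Γ) ∈ Mx := fun l hl => hmoveM _ fun v hv => hker l hl ⟨v, hfxW hv⟩
  -- the images
  set AL := A.subgroupOf L with hAL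
  have hAmap : AL.map L.subtype = A := map_subgroupOf_eq_of_le (le_sup_left.trans hARL)
  set A' := AL.map ψ with hA'
  haveI : Finite ↥ψ₀.range := Finite.of_surjective ψ hψs
  set T' : Sylow p ↥ψ₀.range := Q.mapSurjective hψs with hT'
  set M' := (Mx.subgroupOf L).map ψ with hM'
  have hT'c : (T' : Subgroup ↥ψ₀.range) = (Q : Subgroup ↥L).map ψ := Sylow.coe_mapSurjective hψs Q
  have hM'c : ∀ l : ↥L, ψ l ∈ M' → (l : Γ) ∈ Mx := by
    rintro l ⟨z, hz, e⟩
    have h1 : z⁻¹ * l ∈ ψ.ker := by rw [MonoidHom.mem_ker, map_mul, map_inv, e, inv_mul_cancel]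
    have h2 := mul_mem (mem_subgroupOf.1 hz) (hkerM _ h1)
    simpa using h2
  -- fixed points of overgroups in `W`
  have hpass : ∀ B : Subgroup Γ, B ≤ A →
      Nat.card ↥(W ⊓ fx M B) * Nat.card ↥(fx M A) ≤ Nat.card ↥(fx M B) * Nat.card ↥(W ⊓ fx M A) := fun B hB =>
    pair_le (W := fx M B) (Z := W ⊓ fx M A) (fun v (h1 : v ∈ W ⊓ fx M B) (h2 : v ∈ fx M A) => ⟨h1.1, h2⟩) inf_le_right (fx_anti hB)
  have hexp : ∀ v : ↥W, p • v = 0 := fun v => Subtype.ext (h.exp _)
  have hyp : CfsgLib.LocalEven.MinOffender.Hyp p A' T' M' ↥W := by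
    refine ⟨h.prime, hexp, ?_, ?_, ?_, ?_, ?_, ?_, ?_, ?_, ?_, ?_⟩
    · intro g hg
      exact Subtype.ext (Units.ext (DFunLike.ext _ _ fun v => hg v))
    · rw [hT'c]
      exact map_mono fun z hz => mem_subgroupOf.2 (hPLM ⟨z, hz, rfl⟩)
    · intro e
      obtain ⟨x, hx, hxM⟩ := SetLike.not_le_iff_exists.1 hLM
      exact hxM (hM'c ⟨x, hx⟩ (e ▸ mem_top _))
    · intro H hTH hH
      set H₀ := (H.comap ψ).map L.subtype with hH₀
      have h1 : H₀ ≠ L := fun e => hH (by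
        rw [eq_top_iff]
        intro z _
        obtain ⟨l, rfl⟩ := hψs z
        obtain ⟨l', hl', e'⟩ := (e.symm ▸ l.2 : (l : Γ) ∈ H₀)
        rw [← Subtype.ext e']; exact hl')
      have h2 : AR ≤ H₀ := hARP.trans (map_mono fun z hz => hTH (hT'c ▸ ⟨z, hz, rfl⟩))
      intro z hz
      obtain ⟨l, rfl⟩ := hψs z
      exact ⟨l, mem_subgroupOf.2 (hsub H₀ h2 (map_subtype_le _) h1 ⟨l, hz, rfl⟩), rfl⟩
    · rw [hT'c]
      exact map_mono fun z hz => hQ (show (z : Γ) ∈ AR from mem_sup_left hz)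
    · rintro _ ⟨a, ha, rfl⟩ _ ⟨b, hb, rfl⟩
      rw [← map_mul, ← map_mul, show a * b = b * a from Subtype.ext (h.comm A hA _ ha _ hb)]
    · rw [hA', hfxcard, hAmap]
      set k := Nat.card ↥(AL ⊓ ψ.ker) with hk
      have hAk : Nat.card ↥A = Nat.card ↥(AL.map ψ) * k := by
        rw [← hAmap, card_map_of_injective L.subtype_injective]; exact card_map_mul ψ AL
      set A₀ := (AL ⊓ ψ.ker).map L.subtype with hA₀
      have hA₀A : A₀ ≤ A := hAmap ▸ map_mono inf_le_left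
      have hA₀W : W ≤ fx M A₀ := by
        rintro v hv _ ⟨a, ha, rfl⟩
        exact hker a ha.2 ⟨v, hv⟩
      have hA₀c : Nat.card ↥A₀ = k := card_map_of_injective L.subtype_injective
      have hp := hpass A₀ hA₀A
      rw [inf_eq_left.2 hA₀W] at hp
      have hwa : 0 < Nat.card ↥(W ⊓ fx M A) := Nat.card_pos
      have hXA : 0 < Nat.card ↥(fx M A) := Nat.card_pos
      refine Nat.le_of_mul_le_mul_right (c := k * Nat.card ↥(fx M A)) ?_ (Nat.mul_pos Nat.card_pos hXA)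
      by_cases h0 : A₀ = ⊥
      · have hk1 : k = 1 := by rw [← hA₀c, h0, card_bot]
        rw [hk1, mul_one] at hAk
        rw [hk1, one_mul, ← hAk]
        calc _ ≤ Nat.card M * Nat.card ↥(W ⊓ fx M A) :=
              hp.trans (Nat.mul_le_mul_right _ (Nat.card_le_card_of_injective Subtype.val Subtype.val_injective))
          _ ≤ Nat.card ↥A * Nat.card ↥(fx M A) * Nat.card ↥(W ⊓ fx M A) := Nat.mul_le_mul_right _ (h.off A hA)
          _ = _ := by ring
      by_cases h1 : A₀ = A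
      · rw [h1] at hA₀W
        rw [inf_eq_left.2 hA₀W]
        exact Nat.mul_le_mul_right _ (Nat.le_mul_of_pos_left _ Nat.card_pos)
      · have hs := (h.strict A hA A₀ hA₀A h0 h1).le
        rw [hA₀c, hAk] at hs
        calc Nat.card ↥W * (k * Nat.card ↥(fx M A)) = k * (Nat.card ↥W * Nat.card ↥(fx M A)) := by ring
          _ ≤ k * (Nat.card ↥(fx M A₀) * Nat.card ↥(W ⊓ fx M A)) := Nat.mul_le_mul_left _ hp
          _ = k * Nat.card ↥(fx M A₀) * Nat.card ↥(W ⊓ fx M A) := by ring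
          _ ≤ _ := Nat.mul_le_mul_right _ hs
          _ = _ := by ring
    · intro B' hB' hne hne'
      rw [hA'] at hB' hne' ⊢
      set B := AL ⊓ B'.comap ψ with hB
      have hBmap : B.map ψ = B' := by
        refine le_antisymm (map_le_iff_le_comap.2 inf_le_right) fun z hz => ?_
        obtain ⟨a, ha, rfl⟩ := hB' hz
        exact ⟨a, ⟨ha, hz⟩, rfl⟩
      have hBk : B ⊓ ψ.ker = AL ⊓ ψ.ker :=
        le_antisymm (inf_le_inf_right _ inf_le_left) (le_inf (le_inf inf_le_left (fun a ha => by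
          show ψ a ∈ B'
          rw [MonoidHom.mem_ker.1 ha.2]; exact one_mem _)) inf_le_right)
      have hBA : B.map L.subtype ≤ A := hAmap ▸ map_mono inf_le_left
      have hs := h.strict A hA _ hBA (fun e => hne (by
          rw [← hBmap, (map_eq_bot_iff_of_injective _ L.subtype_injective).1 e, Subgroup.map_bot]))
        (fun e => hne' (by rw [← hBmap, map_injective L.subtype_injective (e.trans hAmap.symm)]))
      have hp := hpass _ hBA
      rw [← hBmap, hfxcard, hfxcard, hAmap]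
      have cA : Nat.card ↥A = Nat.card ↥(AL.map ψ) * Nat.card ↥(AL ⊓ ψ.ker) := by
        rw [← hAmap, card_map_of_injective L.subtype_injective]; exact card_map_mul ψ AL
      rw [card_map_of_injective L.subtype_injective, card_map_mul ψ B, hBk, cA] at hs
      by_contra hc
      push Not at hc
      refine hs.not_ge (Nat.le_of_mul_le_mul_right (c := Nat.card ↥(W ⊓ fx M A)) ?_ Nat.card_pos)
      calc _ = Nat.card ↥(AL.map ψ) * Nat.card ↥(W ⊓ fx M A) *
            (Nat.card ↥(AL ⊓ ψ.ker) * Nat.card ↥(fx M A)) := by ring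
        _ ≤ Nat.card ↥(B.map ψ) * Nat.card ↥(W ⊓ fx M (B.map L.subtype)) *
            (Nat.card ↥(AL ⊓ ψ.ker) * Nat.card ↥(fx M A)) := Nat.mul_le_mul_right _ hc
        _ = Nat.card ↥(B.map ψ) * Nat.card ↥(AL ⊓ ψ.ker) *
            (Nat.card ↥(W ⊓ fx M (B.map L.subtype)) * Nat.card ↥(fx M A)) := by ring
        _ ≤ _ := Nat.mul_le_mul_left _ hp
        _ = _ := by ring
    · obtain ⟨x, hx, hxM⟩ := SetLike.not_le_iff_exists.1 hLM
      obtain ⟨v, hv, hvx⟩ : ∃ v ∈ fx M (conjSub m (T : Subgroup Γ)), x • v ≠ v := by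
        by_contra hc; push Not at hc; exact hxM (hmoveM x hc)
      refine ⟨⟨v, hfxW hv⟩, ?_, fun hc => hvx ?_⟩
      · rw [hT'c]
        exact (hfxmap _ _).2 (fx_anti hPm hv)
      · exact congrArg Subtype.val (hc (ψ ⟨x, hx⟩) (mem_top _))
    · intro z hz
      obtain ⟨l, rfl⟩ := hψs z
      have hlM : (l : Γ) ∉ Mx := fun e => hz ⟨l, e, rfl⟩
      have h1 := hgen l l.2 hlM
      have h2 : (A.subgroupOf L ⊔ conjSub l (A.subgroupOf L) ⊔ R.subgroupOf L) = ⊤ := by
        refine map_injective L.subtype_injective ?_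
        rw [Subgroup.map_sup, Subgroup.map_sup, map_subgroupOf_eq_of_le (le_sup_left.trans hARL),
          map_subgroupOf_eq_of_le (le_sup_right.trans hARL), ← MonoidHom.range_eq_map, range_subtype]
        refine Eq.trans ?_ h1
        congr 2
        conv_rhs => rw [← hAmap, conjSub, Subgroup.map_map]
        rw [conjSub, Subgroup.map_map]
        congr 1
      have h3 := congrArg (Subgroup.map ψ) h2
      rw [Subgroup.map_sup, Subgroup.map_sup, map_top_of_surjective ψ hψs,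
        show (R.subgroupOf L).map ψ = ⊥ from (Subgroup.map_eq_bot_iff _).2 fun r hr => hRker r hr, sup_bot_eq] at h3
      refine Eq.trans ?_ h3
      congr 1
      rw [conjSub, conjSub, hA', Subgroup.map_map, Subgroup.map_map]
      congr 1
      ext a
      simp
  obtain ⟨-, F, iF, iFF, hF, ρ, -, hρ, -⟩ := hyp.main
  obtain ⟨n, hn⟩ := (T'.2.to_le hyp.aLe).exists_card_eq
  exact ⟨L, F, iF, iFF, n, hF.trans hn, ρ.comp ψ, hρ.2.comp hψs⟩

end Setting

end CfsgLib.JGeneration
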